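import Cfsg.Agent.Lib.Classical.AltSection.E8.Roots
import Cfsg.Agent.Lib.Chev.SylowTorus.Fusion

/-!
A monomial element of order three in a group of type E8 fixes at most one hundred and seventy-two
dimensions of the adjoint module.
-/

set_option autoImplicit false
set_option maxRecDepth 100000
set_option maxHeartbeats 1000000
set_option linter.unusedSectionVars false

namespace CfsgLib.Classical.AltSection.E8Monomial

open Cfsg.Lie Matrix CfsgLib.Chev CfsgLib.Chev.Cert CfsgLib.Chev.GTorus
open E8Roots (val qM)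

section rows

variable {D : ChevalleyDatum} {T : Tab} {C : Tab.Cover} (h : Cert D T C) {F : Type*} [Field F]

/-- The rows of the roots are supported at single columns. -/
def RowsAlong (g : Matrix D.Idx D.Idx F) (σ : Fin D.nroots → Fin D.nroots) : Prop :=
  ∀ r col, col ≠ Sum.inr r → g (Sum.inr (σ r)) col = 0

include h

/-- The permutation of the roots by a word. -/
def wrf (w : List ℕ) (hw : WordOK T w) (r : Fin D.nroots) : Fin D.nroots :=
  ⟨rword T w r, lt_of_lt_of_eq (h.rword_lt hw (lt_of_lt_of_eq r.isLt h.nroots_eq)) h.nroots_eq.symm⟩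

theorem rowsAlong_word : ∀ (w : List ℕ) (hw : WordOK T w) {t : GL D.Idx F},
    t ∈ D.diagonalSubgroup F →
    RowsAlong ((nW D F w * t : GL D.Idx F) : Matrix D.Idx D.Idx F) (wrf h w hw) := by
  intro w
  induction w with
  | nil =>
    intro hw t ht r col hcol
    obtain ⟨c, hc⟩ := h.range_torusHom.ge ht
    rw [show (nW D F [] * t : GL D.Idx F) = t by simp [nW], ← hc,
      show wrf h [] hw r = r from Fin.ext rfl]
    show torus D _ (Sum.inr r) col = 0
    exact Matrix.diagonal_apply_ne _ (Ne.symm hcol)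
  | cons i w ih =>
    intro hw t ht r col hcol
    rw [nW_cons, mul_assoc, Units.val_mul, h.coe_nS, h.n_mul_inr hw.head one_ne_zero,
      show h.rf hw.head (wrf h (i :: w) hw r) = wrf h w hw.tail r from Fin.ext (by
        show T.refl i (T.refl i (rword T w r)) = rword T w r
        exact h.refl_refl hw.head (h.rword_lt hw.tail (lt_of_lt_of_eq r.isLt h.nroots_eq))),
      ih hw.tail ht r col hcol, mul_zero]

theorem carV_wrf : ∀ (w : List ℕ) (hw : WordOK T w) (r : Fin D.nroots),
    carV T (wrf h w hw r).val = (w.map (reflMat T)).prod *ᵥ carV T r.val := by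
  intro w
  induction w with
  | nil => intro hw r; simp [wrf, rword]
  | cons i w ih =>
    intro hw r
    show carV T (T.refl i (rword T w r)) = _
    rw [carV_refl h hw.head (h.rword_lt hw.tail (lt_of_lt_of_eq r.isLt h.nroots_eq)),
      show carV T (rword T w r) = _ from ih hw.tail r, List.map_cons, List.prod_cons, Matrix.mulVec_mulVec]

theorem acts_word (w : List ℕ) (hw : WordOK T w) {t : GL D.Idx F} (ht : t ∈ D.diagonalSubgroup F) :
    Acts D T (nW D F w * t) (w.map (reflMat T)).prod := fun r hr =>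
  ⟨rword T w r, h.rword_lt hw hr, Maps_mul (h.Maps_diagonal ht hr) (h.Maps_nW hw hr),
    carV_wrf h w hw ⟨r, lt_of_lt_of_eq hr h.nroots_eq.symm⟩⟩

end rows

/-- A set of coordinates meeting every fixed vector bounds the fixed space. -/
theorem finrank_fix_le {n : Type*} [Fintype n] [DecidableEq n] {k : Type*} [Field k] (A : Matrix n n k)
    (S : Finset n) (h : ∀ x : n → k, A *ᵥ x = x → (∀ a ∈ S, x a = 0) → x = 0) :
    Module.finrank k (LinearMap.ker (Matrix.toLin' A - 1)) ≤ S.card := by
  let res : LinearMap.ker (Matrix.toLin' A - 1) →ₗ[k] (S → k) :=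
    LinearMap.pi fun a => (LinearMap.proj (R := k) (φ := fun _ : n => k) a.1).comp
      (LinearMap.ker (Matrix.toLin' A - 1)).subtype
  have hinj : Function.Injective res := by
    rw [injective_iff_map_eq_zero]
    rintro ⟨x, hx⟩ h0
    refine Subtype.ext (h x ?_ fun a ha => congrFun h0 ⟨a, ha⟩)
    rw [← Matrix.toLin'_apply, ← sub_eq_zero]
    exact hx
  refine (LinearMap.finrank_le_finrank_of_injective hinj).trans ?_
  rw [Module.finrank_fintype_fun_eq_card, Fintype.card_coe]

/-- The representatives of the orbits of a permutation of order three. -/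
noncomputable def reps {n : ℕ} (σ : Fin n → Fin n) : Finset (Fin n) :=
  Finset.univ.filter fun r => r ≤ σ r ∧ r ≤ σ (σ r)

theorem card_reps {n : ℕ} {σ : Fin n → Fin n} (h3 : ∀ r, σ (σ (σ r)) = r) :
    3 * (reps σ).card ≤ 2 * (Finset.univ.filter fun r => σ r = r).card + n := by
  classical
  set Z := Finset.univ.filter fun r => σ r = r with hZ
  set R := (reps σ).filter fun r => σ r ≠ r with hR
  have hinj : ∀ a b, σ a = σ b → a = b := fun a b e => by rw [← h3 a, e, h3]
  have hR' : ∀ r ∈ R, r < σ r ∧ r < σ (σ r) := fun r hr => by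
    obtain ⟨h1, h2⟩ := Finset.mem_filter.1 hr
    obtain ⟨-, h4, h5⟩ := Finset.mem_filter.1 h1
    refine ⟨lt_of_le_of_ne h4 (Ne.symm h2), lt_of_le_of_ne h5 fun e => h2 ?_⟩
    conv_lhs => rw [e]
    exact h3 r
  have h1 : (reps σ).card ≤ R.card + Z.card := by
    refine (Finset.card_le_card fun r hr => ?_).trans (Finset.card_union_le R Z)
    by_cases e : σ r = r
    · exact Finset.mem_union_right _ (by simp [hZ, e])
    · exact Finset.mem_union_left _ (Finset.mem_filter.2 ⟨hr, e⟩)
  have d1 : Disjoint R (R.image σ) := Finset.disjoint_left.2 fun a ha hb => by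
    obtain ⟨b, hbR, rfl⟩ := Finset.mem_image.1 hb
    have x1 := (hR' _ ha).2
    have x2 := (hR' _ hbR).1
    rw [h3] at x1
    exact lt_asymm x1 x2
  have d2 : Disjoint (R ∪ R.image σ) (R.image fun r => σ (σ r)) := Finset.disjoint_left.2 fun a ha hb => by
    obtain ⟨b, hbR, rfl⟩ := Finset.mem_image.1 hb
    rcases Finset.mem_union.1 ha with ha | ha
    · have x1 := (hR' _ ha).1
      rw [h3] at x1
      exact lt_asymm x1 (hR' _ hbR).2
    · obtain ⟨a, ha, e⟩ := Finset.mem_image.1 ha
      obtain rfl := hinj _ _ e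
      have x1 := (hR' _ ha).2
      rw [h3] at x1
      exact lt_asymm x1 (hR' _ hbR).1
  have h2 : R ∪ R.image σ ∪ R.image (fun r => σ (σ r)) ⊆ Finset.univ \ Z := fun a ha => by
    refine Finset.mem_sdiff.2 ⟨Finset.mem_univ _, fun hz => ?_⟩
    have e : σ a = a := (Finset.mem_filter.1 hz).2
    simp only [Finset.mem_union, Finset.mem_image] at ha
    rcases ha with (ha | ⟨b, hb, rfl⟩) | ⟨b, hb, rfl⟩
    · exact (Finset.mem_filter.1 ha).2 e
    · exact (Finset.mem_filter.1 hb).2 (hinj _ _ e)
    · exact (Finset.mem_filter.1 hb).2 (hinj _ _ (hinj _ _ e))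
  have h2' := Finset.card_le_card h2
  rw [Finset.card_union_of_disjoint d2, Finset.card_union_of_disjoint d1,
    Finset.card_image_of_injective _ (fun a b e => hinj a b e),
    Finset.card_image_of_injective _ (fun a b e => hinj a b (hinj _ _ e)),
    Finset.card_sdiff, Finset.inter_univ, Finset.card_univ, Fintype.card_fin] at h2'
  have h3' := Finset.card_le_univ Z
  rw [Fintype.card_fin] at h3'
  omega

theorem nroots_eq : chevE8.nroots = 240 := certE8.nroots_eq

theorem rank_eq : chevE8.rank = 8 := certE8.rank_eq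

theorem carV_injective {r s : ℕ} (hr : r < 240) (hs : s < 240) (h : carV tabE8 r = carV tabE8 s) : r = s :=
  E8Roots.car_mod_three hr hs fun i hi => congrArg (Int.cast : ℤ → ZMod 3) (congrFun h ⟨i, hi⟩)

theorem qM_word : ∀ w : List ℕ, WordOK tabE8 w →
    ((w.map (reflMat tabE8)).prod)ᵀ * qM * (w.map (reflMat tabE8)).prod = qM := by
  intro w
  induction w with
  | nil => intro _; simp
  | cons i w ih =>
    intro hw
    rw [List.map_cons, List.prod_cons, Matrix.transpose_mul]
    calc ((w.map (reflMat tabE8)).prod)ᵀ * (reflMat tabE8 i)ᵀ * qM *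
          (reflMat tabE8 i * (w.map (reflMat tabE8)).prod)
        = ((w.map (reflMat tabE8)).prod)ᵀ * ((reflMat tabE8 i)ᵀ * qM * reflMat tabE8 i) *
          (w.map (reflMat tabE8)).prod := by simp only [Matrix.mul_assoc]
      _ = qM := by rw [E8Roots.qM_refl i hw.head, ih hw.tail]

/-- A permutation of the roots by an isometry moves one hundred and fourteen roots or none. -/
theorem card_fixed {σ : Fin chevE8.nroots → Fin chevE8.nroots} {M : Matrix (Fin tabE8.l) (Fin tabE8.l) ℤ}
    (hM : Mᵀ * qM * M = qM) (hσ : ∀ r, carV tabE8 (σ r).val = M *ᵥ carV tabE8 r.val) {a : Fin chevE8.nroots}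
    (ha : σ a ≠ a) : (Finset.univ.filter fun r => σ r = r).card ≤ 126 := by
  classical
  set d : Fin tabE8.l → ℤ := carV tabE8 a.val - carV tabE8 (σ a).val with hd
  set c : Fin 8 → ZMod 3 := fun i => ((qM *ᵥ d) i : ZMod 3) with hc
  have hc0 : c ≠ 0 := fun h0 => ha (Fin.ext (E8Roots.car_mod_three (lt_of_lt_of_eq (σ a).isLt nroots_eq)
    (lt_of_lt_of_eq a.isLt nroots_eq) fun i hi => by
      have e : cartanT tabE8 * qM = 1 := mul_eq_one_comm.1 iE8_mul
      have h1 : d ⟨i, hi⟩ = ∑ j, cartanT tabE8 ⟨i, hi⟩ j * (qM *ᵥ d) j := by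
        conv_lhs => rw [← Matrix.one_mulVec d, ← e, ← Matrix.mulVec_mulVec]
        rfl
      have h2 : ((d ⟨i, hi⟩ : ℤ) : ZMod 3) = 0 := by
        rw [h1, Int.cast_sum]
        exact Finset.sum_eq_zero fun j _ => by
          rw [Int.cast_mul, show ((qM *ᵥ d) j : ZMod 3) = 0 from congrFun h0 j, mul_zero]
      rw [hd, Pi.sub_apply, Int.cast_sub, sub_eq_zero] at h2
      exact h2.symm))
  have hle : (Finset.univ.filter fun r => σ r = r).card ≤
      (Finset.univ.filter fun r : Fin 240 => ¬ val c r ≠ 0).card := by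
    refine Finset.card_le_card_of_injOn (Fin.cast nroots_eq) (fun r hr => ?_) (Fin.cast_injective _).injOn
    have hr' : σ r = r := (Finset.mem_filter.1 hr).2
    refine Finset.mem_filter.2 ⟨Finset.mem_univ _, not_not.2 ?_⟩
    have h1 : carV tabE8 r.val ⬝ᵥ (qM *ᵥ carV tabE8 (σ a).val) =
        carV tabE8 r.val ⬝ᵥ (qM *ᵥ carV tabE8 a.val) := by
      conv_lhs => rw [← hr', hσ, hσ, Matrix.mulVec_mulVec, dotProduct_mulVec, Matrix.vecMul_mulVec,
        ← Matrix.mul_assoc, hM, ← dotProduct_mulVec]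
    have h2 : carV tabE8 r.val ⬝ᵥ (qM *ᵥ d) = 0 := by
      rw [hd, Matrix.mulVec_sub, dotProduct_sub, h1, sub_self]
    have h3 := congrArg (Int.cast : ℤ → ZMod 3) h2
    rw [Int.cast_zero, dotProduct, Int.cast_sum] at h3
    rw [← h3]
    refine Finset.sum_congr rfl fun i _ => ?_
    rw [Int.cast_mul, mul_comm]
    rfl
  have h1 := E8Roots.count_ne hc0
  have h2 := Finset.card_filter_add_card_filter_not (s := (Finset.univ : Finset (Fin 240))) (fun r => val c r ≠ 0)
  rw [Finset.card_univ, Fintype.card_fin] at h2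
  omega

variable {L : Type*} [Field L] {k : Type*} [Field k] (jk : L →+* k)

/-- A diagonal element of order three. -/
theorem fix_diagonal {g : GL chevE8.Idx L} (hg : g ∈ chevE8.diagonalSubgroup L) (h3 : g ^ 3 = 1)
    (h1 : g ≠ 1) : Module.finrank k (LinearMap.ker
      (Matrix.toLin' ((g : Matrix chevE8.Idx chevE8.Idx L).map jk) - 1)) ≤ 172 := by
  classical
  haveI : Fact (Nat.Prime 3) := ⟨Nat.prime_three⟩
  obtain ⟨c, rfl⟩ := certE8.range_torusHom.ge hg
  have hc3 : c ^ 3 = 1 := torusHom_injective certE8 iE8_mul (by rw [map_pow, map_one]; exact h3)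
  obtain ⟨i₀, hi₀⟩ : ∃ i, c i ≠ 1 := by
    by_contra h
    push Not at h
    exact h1 (by rw [show c = 1 from funext h, map_one])
  set ω := c i₀
  have hω : orderOf ω = 3 := orderOf_eq_prime (congrFun hc3 i₀) hi₀
  have hω' : IsPrimitiveRoot (ω : L) 3 := by rw [IsPrimitiveRoot.iff_orderOf, orderOf_units, hω]
  have hXi : ∀ i, ∃ n : ℤ, ω ^ n = c i := fun i => by
    obtain ⟨n, -, hn⟩ := hω'.eq_pow_of_pow_eq_one (ξ := (c i : L))
      (by rw [← Units.val_pow_eq_pow_val, show c i ^ 3 = 1 from congrFun hc3 i, Units.val_one])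
    exact ⟨n, Units.ext (by rw [zpow_natCast, Units.val_pow_eq_pow_val, hn])⟩
  choose X hX using hXi
  set x : Fin 8 → ZMod 3 := fun i => (X i : ZMod 3) with hx
  have hx0 : x ≠ 0 := fun h0 => by
    refine hi₀ ?_
    show c i₀ = 1
    rw [← hX i₀, ← orderOf_dvd_iff_zpow_eq_one, hω]
    exact (ZMod.intCast_zmod_eq_zero_iff_dvd _ _).1 (congrFun h0 i₀)
  set Z := Finset.univ.filter fun r : Fin chevE8.nroots => val x (Fin.cast nroots_eq r) = 0 with hZ
  have hcard : Z.card ≤ 126 := by
    have h1 := E8Roots.count_ne hx0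
    have h2 := Finset.card_filter_add_card_filter_not (s := (Finset.univ : Finset (Fin 240))) (fun r => val x r ≠ 0)
    have h3 : Z.card ≤ (Finset.univ.filter fun r : Fin 240 => ¬ val x r ≠ 0).card :=
      Finset.card_le_card_of_injOn (Fin.cast nroots_eq) (fun r hr => by
        simp only [hZ, Finset.coe_filter, Set.mem_ofPred_eq] at hr
        simp only [Finset.coe_filter, Set.mem_ofPred_eq]
        exact ⟨Finset.mem_univ _, not_not.2 hr.2⟩) (Fin.cast_injective _).injOn
    rw [Finset.card_univ, Fintype.card_fin] at h2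
    omega
  refine (finrank_fix_le _ ((Finset.univ : Finset (Fin chevE8.rank)).disjSum Z) fun v hv hS => ?_).trans ?_
  · funext a
    rcases a with i | r
    · exact hS _ (Finset.inl_mem_disjSum.2 (Finset.mem_univ _))
    by_cases hr : r ∈ Z
    · exact hS _ (Finset.inr_mem_disjSum.2 hr)
    have hcoe : ((Cert.torusHom (D := chevE8) (T := tabE8) c : GL chevE8.Idx L) :
        Matrix chevE8.Idx chevE8.Idx L) =
        torus chevE8 (charOf tabE8 (Cert.extC tabE8 c)) := rfl
    have hv' := congrFun hv (Sum.inr r)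
    rw [hcoe, torus, Matrix.diagonal_map (map_zero jk), Matrix.mulVec_diagonal] at hv'
    simp only [Function.comp_apply, Sum.elim_inr] at hv'
    rw [show c = fun i => ω ^ X i from funext fun i => (hX i).symm, charOf_zpow] at hv'
    by_contra hne
    have h4 : jk ((ω ^ (X ⬝ᵥ carV tabE8 r.val) : Lˣ) : L) = 1 := mul_right_cancel₀ hne (hv'.trans (one_mul _).symm)
    rw [map_eq_one_iff _ jk.injective, Units.val_eq_one, ← orderOf_dvd_iff_zpow_eq_one, hω,
      ← ZMod.intCast_zmod_eq_zero_iff_dvd, dotProduct, Int.cast_sum] at h4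
    refine hr (Finset.mem_filter.2 ⟨Finset.mem_univ _, ?_⟩)
    rw [← h4]
    refine Finset.sum_congr rfl fun i _ => ?_
    rw [Int.cast_mul]
    rfl
  · rw [Finset.card_disjSum, Finset.card_univ, Fintype.card_fin, rank_eq]
    omega

/-- The bound for a monomial element of order three. -/
theorem fix_le {g : GL chevE8.Idx L} (hg : g ∈ chevE8.monomialSubgroup L) (h3 : g ^ 3 = 1)
    (h1 : g ≠ 1) : Module.finrank k (LinearMap.ker
      (Matrix.toLin' ((g : Matrix chevE8.Idx chevE8.Idx L).map jk) - 1)) ≤ 172 := by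
  classical
  obtain ⟨w, hw, t, ht, rfl⟩ := certE8.exists_word_of_monomial hg
  set σ := wrf certE8 w hw with hσdef
  set M := (w.map (reflMat tabE8)).prod with hMdef
  have hσ : ∀ r, carV tabE8 (σ r).val = M *ᵥ carV tabE8 r.val := carV_wrf certE8 w hw
  have hact := acts_word certE8 w hw ht
  have hM3 : M ^ 3 = 1 := acts_unique certE8 iE8_mul (acts_pow certE8 hact 3)
    (by rw [h3]; exact acts_diagonal certE8 (one_mem _))
  have hlt : ∀ r : Fin chevE8.nroots, r.val < 240 := fun r => lt_of_lt_of_eq r.isLt nroots_eq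
  have hσ3 : ∀ r, σ (σ (σ r)) = r := fun r => Fin.ext (carV_injective (hlt _) (hlt _) (by
    rw [hσ, hσ, hσ, Matrix.mulVec_mulVec, Matrix.mulVec_mulVec, ← pow_two, ← pow_succ, hM3,
      Matrix.one_mulVec]))
  by_cases hid : ∀ r, σ r = r
  · have hM1 : M = 1 := by
      refine acts_unique certE8 iE8_mul hact fun r hr => ?_
      obtain ⟨s, hs, hm, he⟩ := hact r hr
      have h2 := hσ ⟨r, lt_of_lt_of_eq hr certE8.nroots_eq.symm⟩
      rw [hid] at h2
      obtain rfl : s = r := carV_injective hs hr (he.trans h2.symm)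
      exact ⟨s, hs, hm, (Matrix.one_mulVec _).symm⟩
    exact fix_diagonal jk (mem_diagonal_of_acts certE8 hg (hM1 ▸ hact)) h3 h1
  push Not at hid
  obtain ⟨a, ha⟩ := hid
  have hfix := card_fixed (qM_word w hw) hσ ha
  have hreps := card_reps hσ3
  refine (finrank_fix_le _ ((Finset.univ : Finset (Fin chevE8.rank)).disjSum (reps σ)) fun v hv hS => ?_).trans ?_
  · have hstep : ∀ r, v (Sum.inr r) = 0 → v (Sum.inr (σ r)) = 0 := fun r hr => by
      conv_lhs => rw [← hv]
      show ∑ col, ((nW chevE8 L w * t : GL chevE8.Idx L) : Matrix chevE8.Idx chevE8.Idx L).map jk (Sum.inr (σ r)) col * v col = 0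
      refine Finset.sum_eq_zero fun col _ => ?_
      by_cases hc : col = Sum.inr r
      · rw [hc, hr, mul_zero]
      · rw [Matrix.map_apply, rowsAlong_word certE8 w hw ht r col hc, map_zero, zero_mul]
    funext a
    rcases a with i | r
    · exact hS _ (Finset.inl_mem_disjSum.2 (Finset.mem_univ _))
    have hrep : ∀ s, s ∈ reps σ → v (Sum.inr s) = 0 := fun s hs => hS _ (Finset.inr_mem_disjSum.2 hs)
    have hmem : ∀ s, s ≤ σ s → s ≤ σ (σ s) → v (Sum.inr s) = 0 := fun s x y =>
      hrep s (Finset.mem_filter.2 ⟨Finset.mem_univ _, x, y⟩)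
    by_cases c1 : r ≤ σ r ∧ r ≤ σ (σ r)
    · exact hmem r c1.1 c1.2
    by_cases c2 : σ r ≤ σ (σ r) ∧ σ r ≤ r
    · have := hstep _ (hstep _ (hmem (σ r) c2.1 (by rw [hσ3]; exact c2.2)))
      rwa [hσ3] at this
    · have c3 : σ (σ r) ≤ r ∧ σ (σ r) ≤ σ r := by omega
      have := hstep _ (hmem (σ (σ r)) (by rw [hσ3]; exact c3.1) (by rw [hσ3]; exact c3.2))
      rwa [hσ3] at this
  · rw [Finset.card_disjSum, Finset.card_univ, Fintype.card_fin, rank_eq]
    have := nroots_eq
    omega

end CfsgLib.Classical.AltSection.E8Monomial
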