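import Cfsg.Agent.Lib.Classical.AltSection.E8.Roots
import Cfsg.Agent.Lib.Classical.AltSection.E8.Monomial
import Cfsg.Agent.Lib.Classical.AltSection.ChevSection
import Mathlib.Data.ZMod.Basic

/-!
The Weyl group of type E8 has no element with an eigenvalue of order sixteen modulo seventeen, so the
groups of type E8 in characteristic three have no alternating section on nineteen points.
-/

set_option autoImplicit false
set_option maxRecDepth 100000
set_option maxHeartbeats 1000000
set_option linter.unusedSectionVars false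

namespace CfsgLib.Classical.AltSection.E8Seventeen

open Cfsg.Lie Matrix CfsgLib.Chev CfsgLib.Chev.Cert CfsgLib.Chev.GTorus CfsgLib.Chev.SylowTorus
open E8Roots (qM)

section nilpotent

variable {k : Type*} [Field k] {V : Type*} [AddCommGroup V] [Module k V] [FiniteDimensional k V]

/-- The images of the powers of a nilpotent map shrink. -/
theorem finrank_range_pow {N : Module.End k V} {m : ℕ} (hN : N ^ m = 0) :
    ∀ i, Module.finrank k (LinearMap.range (N ^ i)) ≤ Module.finrank k V - i := by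
  intro i
  induction i with
  | zero => exact Submodule.finrank_le _
  | succ i ih =>
    have e : LinearMap.range (N ^ (i + 1)) = (LinearMap.range (N ^ i)).map N := by
      rw [pow_succ', Module.End.mul_eq_comp, LinearMap.range_comp]
    have hle : LinearMap.range (N ^ (i + 1)) ≤ LinearMap.range (N ^ i) := by
      rw [pow_succ, Module.End.mul_eq_comp]
      exact LinearMap.range_comp_le_range _ _
    by_cases h0 : LinearMap.range (N ^ (i + 1)) = ⊥
    · rw [h0, finrank_bot]; exact Nat.zero_le _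
    · have hne : LinearMap.range (N ^ (i + 1)) ≠ LinearMap.range (N ^ i) := fun he => by
        have key : ∀ j, LinearMap.range (N ^ (i + 1 + j)) = LinearMap.range (N ^ (i + 1)) := by
          intro j
          induction j with
          | zero => rfl
          | succ j ihj =>
            rw [← add_assoc, pow_succ', Module.End.mul_eq_comp, LinearMap.range_comp, ihj]
            conv_lhs => rw [he]
            rw [← e]
        refine h0 (eq_bot_iff.2 ?_)
        rw [← key m, pow_add, hN, mul_zero, LinearMap.range_zero]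
      have := Submodule.finrank_lt_finrank_of_lt (lt_of_le_of_ne hle hne)
      omega

end nilpotent

/-- A symmetric matrix with zero diagonal whose image is a line is zero. -/
theorem eq_zero_of_line {n : Type*} [Fintype n] [DecidableEq n] {k : Type*} [Field k] {H : Matrix n n k}
    (hs : Hᵀ = H) (hd : ∀ i, H i i = 0) (hr : Module.finrank k (LinearMap.range (Matrix.toLin' H)) ≤ 1) :
    H = 0 := by
  obtain ⟨u, hu⟩ := finrank_le_one_iff.1 hr
  have key : ∀ b, ∃ a : k, ∀ i, H i b = a * u.1 i := fun b => by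
    obtain ⟨a, ha⟩ := hu ⟨Matrix.toLin' H (Pi.single b 1), LinearMap.mem_range_self _ _⟩
    refine ⟨a, fun i => ?_⟩
    have h := congrFun (congrArg Subtype.val ha) i
    simp only [SetLike.val_smul, Pi.smul_apply, smul_eq_mul, Matrix.toLin'_apply,
      Matrix.mulVec_single_one, Matrix.col_apply] at h
    exact h.symm
  choose a ha using key
  ext j b
  by_contra hne
  have h1 : H j b ≠ 0 := hne
  rw [ha b j] at h1
  obtain ⟨-, h2⟩ := mul_ne_zero_iff.1 h1
  have h3 : H j j = 0 := hd j
  rw [ha j j] at h3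
  have h4 : H b j = 0 := by rw [ha j b, (mul_eq_zero.1 h3).resolve_right h2, zero_mul]
  exact hne ((congrFun (congrFun hs j) b).symm.trans h4)

theorem qM_transpose : qMᵀ = qM := by decide +kernel

theorem qM_diag : ∀ i, (2 : ℤ) ∣ qM i i := by decide +kernel

theorem triples : ∀ j : Fin 7, ∀ t : Fin tabE8.l,
    tabE8.car t.val (([163, 142, 136, 131, 127, 124, 122] : List ℕ).getD j.val 0) =
      tabE8.car t.val (tabE8.simple (([0, 1, 2, 3, 4, 5, 6] : List ℕ).getD j.val 0)) +
      tabE8.car t.val (tabE8.simple (([2, 3, 3, 4, 5, 6, 7] : List ℕ).getD j.val 0)) := by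
  decide +kernel

theorem car_neg' (r : Fin 240) : carV tabE8 (239 - r.val) = -carV tabE8 r.val :=
  funext fun i => E8Roots.car_neg r i

theorem carV_ne_zero {r : ℕ} (hr : r < 240) : carV tabE8 r ≠ 0 := fun h => by
  have h1 := car_neg' ⟨r, hr⟩
  simp only [h, neg_zero] at h1
  have := E8Monomial.carV_injective (show 239 - r < 240 by omega) hr (h1.trans h.symm)
  omega

theorem eq_neg_self {r : ℕ} (hr : r < 240) : carV tabE8 r ≠ -carV tabE8 r := fun h => by
  refine carV_ne_zero hr (funext fun i => ?_)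
  have := congrFun h i
  simp only [Pi.neg_apply] at this
  simp only [Pi.zero_apply]
  omega

theorem carV_root (w : List ℕ) (hw : WordOK tabE8 w) : ∀ (n : ℕ) {r : ℕ}, r < 240 →
    ∃ s < 240, carV tabE8 s = (w.map (reflMat tabE8)).prod ^ n *ᵥ carV tabE8 r := by
  intro n
  induction n with
  | zero => exact fun {r} hr => ⟨r, hr, by simp⟩
  | succ n ih =>
    intro r hr
    obtain ⟨s, hs, e⟩ := ih hr
    refine ⟨rword tabE8 w s, certE8.rword_lt hw hs, ?_⟩
    have h := E8Monomial.carV_wrf certE8 w hw ⟨s, lt_of_lt_of_eq hs E8Monomial.nroots_eq.symm⟩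
    rw [pow_succ', ← Matrix.mulVec_mulVec, ← e]
    exact h

theorem pow_two_mul_eq {R : Type*} [Ring R] (h2 : (2 : R) = 0) (u : R) : (1 + u) ^ 2 = 1 + u ^ 2 := by
  rw [pow_two, pow_two, show (1 + u) * (1 + u) = 1 + 2 * u + u * u by noncomm_ring, h2, zero_mul, add_zero]

section mod_two

variable {n : ℕ}

/-- The reduction modulo two. -/
noncomputable def red : Matrix (Fin n) (Fin n) ℤ →+* Matrix (Fin n) (Fin n) (ZMod 2) :=
  (Int.castRingHom (ZMod 2)).mapMatrix

theorem two_eq_zero : (2 : Matrix (Fin n) (Fin n) (ZMod 2)) = 0 := by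
  ext i j
  rw [Matrix.ofNat_apply, Matrix.zero_apply]
  split_ifs
  · exact CharP.cast_eq_zero (ZMod 2) 2
  · rfl

theorem one_add_pow (u : Matrix (Fin n) (Fin n) (ZMod 2)) : ∀ i, (1 + u) ^ 2 ^ i = 1 + u ^ 2 ^ i := by
  intro i
  induction i with
  | zero => simp
  | succ i ih => rw [pow_succ, pow_mul, ih, pow_two_mul_eq two_eq_zero, ← pow_mul]

/-- An element of two power order in dimension eight. -/
theorem unipotent_facts (hn : n = 8) {u : Matrix (Fin n) (Fin n) (ZMod 2)} {a : ℕ} (hu : u ^ 2 ^ a = 1) :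
    u ^ 8 = 1 ∧ (1 + u) ^ 8 = 0 ∧
      Module.finrank (ZMod 2) (LinearMap.range (Matrix.toLin' ((1 + u) ^ 7))) ≤ 1 := by
  haveI : Fact (Nat.Prime 2) := ⟨Nat.prime_two⟩
  subst hn
  have hD : Matrix.toLinAlgEquiv' (1 + u) ^ 2 ^ a = 0 := by
    rw [← map_pow, one_add_pow, hu, one_add_one_eq_two, two_eq_zero, map_zero]
  have hrange := finrank_range_pow hD
  have h8 : (1 + u) ^ 8 = 0 := by
    have h8 := hrange 8
    rw [Module.finrank_fin_fun, Nat.sub_self, Nat.le_zero, Submodule.finrank_eq_zero,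
      LinearMap.range_eq_bot, ← map_pow] at h8
    exact (EmbeddingLike.map_eq_zero_iff).1 h8
  refine ⟨?_, h8, ?_⟩
  · have h : (1 + u) ^ 8 = 1 + u ^ 8 := one_add_pow u 3
    rw [h8] at h
    calc u ^ 8 = 2 * u ^ 8 + 1 - (1 + u ^ 8) := by noncomm_ring
      _ = 1 := by rw [← h, two_eq_zero, zero_mul, zero_add, sub_zero]
  · have h7 := hrange 7
    rw [Module.finrank_fin_fun, ← map_pow] at h7
    exact h7

/-- An isometry of an even unimodular form with eighth power minus one is not unipotent modulo two. -/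
theorem false_of_iso (hn : n = 8) {G C v : Matrix (Fin n) (Fin n) ℤ} (hG : Gᵀ = G)
    (hd : ∀ i, (2 : ℤ) ∣ G i i) (hCG : C * G = 1) (hiso : vᵀ * G * v = G) (hv8 : v ^ 8 = -1) {a : ℕ}
    (hu : red v ^ 2 ^ a = 1) : False := by
  haveI : Fact (Nat.Prime 2) := ⟨Nat.prime_two⟩
  haveI : NeZero n := ⟨by omega⟩
  obtain ⟨-, hD8, hD7r⟩ := unipotent_facts hn hu
  set D := 1 + red v with hD
  have hisop : ∀ i, (v ^ i)ᵀ * G * v ^ i = G := by
    intro i
    induction i with
    | zero => simp
    | succ i ih =>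
      rw [pow_succ, Matrix.transpose_mul]
      calc vᵀ * (v ^ i)ᵀ * G * (v ^ i * v) = vᵀ * ((v ^ i)ᵀ * G * v ^ i) * v := by
            simp only [Matrix.mul_assoc]
        _ = G := by rw [ih, hiso]
  have hflip : ∀ i j, i + j = 8 → (G * v ^ i)ᵀ = -(G * v ^ j) := fun i j hij => by
    have h1 : (v ^ i)ᵀ * G * v ^ i * v ^ j = G * v ^ j := by rw [hisop]
    rw [Matrix.mul_assoc ((v ^ i)ᵀ * G), ← pow_add, hij, hv8, Matrix.mul_neg, Matrix.mul_one] at h1
    rw [Matrix.transpose_mul, hG, ← h1, _root_.neg_neg]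
  set S := 1 + v + v ^ 2 + v ^ 3 + v ^ 4 + v ^ 5 + v ^ 6 + v ^ 7 with hS
  have hH : G * S = G + G * v ^ 1 + G * v ^ 2 + G * v ^ 3 + G * v ^ 4 + G * v ^ 5 + G * v ^ 6 + G * v ^ 7 := by
    simp only [hS, Matrix.mul_add, Matrix.mul_one, pow_one]
  have t1 := hflip 1 7 rfl; have t2 := hflip 2 6 rfl; have t3 := hflip 3 5 rfl; have t4 := hflip 4 4 rfl
  have t5 := hflip 5 3 rfl; have t6 := hflip 6 2 rfl; have t7 := hflip 7 1 rfl
  generalize G * v ^ 1 = a1, G * v ^ 2 = a2, G * v ^ 3 = a3, G * v ^ 4 = a4, G * v ^ 5 = a5,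
    G * v ^ 6 = a6, G * v ^ 7 = a7 at hH t1 t2 t3 t4 t5 t6 t7
  have hdiag : ∀ i, red (G * S) i i = 0 := fun i => by
    have e1 : a1 i i = -a7 i i := congrFun (congrFun t1 i) i
    have e2 : a2 i i = -a6 i i := congrFun (congrFun t2 i) i
    have e3 : a3 i i = -a5 i i := congrFun (congrFun t3 i) i
    have e4 : a4 i i = -a4 i i := congrFun (congrFun t4 i) i
    have e0 := hd i
    show (((G * S) i i : ℤ) : ZMod 2) = 0
    rw [ZMod.intCast_zmod_eq_zero_iff_dvd, hH]
    simp only [Matrix.add_apply]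
    omega
  have hsym : (red (G * S))ᵀ = red (G * S) := by
    ext i j
    show (((G * S) j i : ℤ) : ZMod 2) = (((G * S) i j : ℤ) : ZMod 2)
    have s0 : G j i = G i j := congrFun (congrFun hG i) j
    have s1 : a1 j i = -a7 i j := congrFun (congrFun t1 i) j
    have s2 : a2 j i = -a6 i j := congrFun (congrFun t2 i) j
    have s3 : a3 j i = -a5 i j := congrFun (congrFun t3 i) j
    have s4 : a4 j i = -a4 i j := congrFun (congrFun t4 i) j
    have s5 : a5 j i = -a3 i j := congrFun (congrFun t5 i) j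
    have s6 : a6 j i = -a2 i j := congrFun (congrFun t6 i) j
    have s7 : a7 j i = -a1 i j := congrFun (congrFun t7 i) j
    rw [hH, ← sub_eq_zero, ← Int.cast_sub, ZMod.intCast_zmod_eq_zero_iff_dvd]
    simp only [Matrix.add_apply]
    omega
  have hD7 : red S = D ^ 7 := by
    rw [show (7 : ℕ) = 2 ^ 2 + 2 ^ 1 + 2 ^ 0 from rfl, pow_add, pow_add, hD, one_add_pow, one_add_pow,
      one_add_pow]
    simp only [hS, map_add, map_one, map_pow, show (2 : ℕ) ^ 2 = 4 from rfl,
      show (2 : ℕ) ^ 1 = 2 from rfl, show (2 : ℕ) ^ 0 = 1 from rfl, pow_one]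
    noncomm_ring
  have hrk : Module.finrank (ZMod 2) (LinearMap.range (Matrix.toLin' (red (G * S)))) ≤ 1 := by
    rw [map_mul, hD7, Matrix.toLin'_mul, LinearMap.range_comp]
    exact (Submodule.finrank_map_le _ _).trans hD7r
  have hzero := eq_zero_of_line hsym hdiag hrk
  rw [map_mul, hD7] at hzero
  have hD7' : D ^ 7 = 0 := by
    calc D ^ 7 = red C * (red G * D ^ 7) := by rw [← Matrix.mul_assoc, ← map_mul, hCG, map_one, Matrix.one_mul]
      _ = 0 := by rw [hzero, Matrix.mul_zero]
  have hdiv : ∀ i j, (2 : ℤ) ∣ S i j := fun i j => by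
    rw [← hD7] at hD7'
    exact (ZMod.intCast_zmod_eq_zero_iff_dvd _ 2).1 (congrFun (congrFun hD7' i) j)
  choose T hT using hdiv
  have hT' : S = (2 : ℤ) • Matrix.of T := by
    ext i j; rw [hT i j]; rfl
  have hinv : (1 - v) * Matrix.of T = 1 := by
    refine smul_right_injective _ (show (2 : ℤ) ≠ 0 by norm_num) ?_
    show (2 : ℤ) • ((1 - v) * Matrix.of T) = (2 : ℤ) • 1
    rw [← Matrix.mul_smul, ← hT', hS, show (1 - v) * (1 + v + v ^ 2 + v ^ 3 + v ^ 4 + v ^ 5 + v ^ 6 + v ^ 7) =
      1 - v ^ 8 by noncomm_ring, hv8, sub_neg_eq_add, two_smul]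
  have hDinv : D * red (Matrix.of T) = 1 := by
    rw [← map_one (red (n := n)), ← hinv, map_mul, map_sub, map_one, hD, sub_eq_add_neg]
    congr 2
    exact (neg_eq_of_add_eq_zero_left (by rw [← two_mul, two_eq_zero, zero_mul])).symm
  have hunit : IsUnit (D ^ 7) := (IsUnit.of_mul_eq_one _ hDinv).pow 7
  rw [hD7'] at hunit
  exact not_isUnit_zero hunit

end mod_two

theorem si_lt {i : ℕ} (hi : i < 8) : tabE8.simple i < 240 := certE8.simple_lt (show i < tabE8.l from hi)

theorem eq_one_of_simple (A : Matrix (Fin tabE8.l) (Fin tabE8.l) ℤ)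
    (hA : ∀ i : Fin tabE8.l, A *ᵥ carV tabE8 (tabE8.simple i.val) = carV tabE8 (tabE8.simple i.val)) :
    A = 1 := by
  have e1 : A * (cartanT tabE8)ᵀ = 1 * (cartanT tabE8)ᵀ := by
    rw [Matrix.one_mul]
    ext i j
    exact congrFun (hA j) i
  have e2 : (cartanT tabE8)ᵀ * (matOf tabE8.l iE8)ᵀ = 1 := by
    rw [← Matrix.transpose_mul, iE8_mul, Matrix.transpose_one]
  have := congrArg (fun X => X * (matOf tabE8.l iE8)ᵀ) e1
  simpa only [Matrix.mul_assoc, e2, Matrix.mul_one] using this

theorem same_sign {V : Matrix (Fin tabE8.l) (Fin tabE8.l) ℤ}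
    (hsign : ∀ r < 240, V *ᵥ carV tabE8 r = carV tabE8 r ∨ V *ᵥ carV tabE8 r = -carV tabE8 r)
    {i j t : ℕ} (hi : i < 8) (hj : j < 8) (ht : t < 240)
    (e : carV tabE8 t = carV tabE8 (tabE8.simple i) + carV tabE8 (tabE8.simple j)) :
    (V *ᵥ carV tabE8 (tabE8.simple i) = carV tabE8 (tabE8.simple i)) ↔
      (V *ᵥ carV tabE8 (tabE8.simple j) = carV tabE8 (tabE8.simple j)) := by
  have ht' := hsign t ht
  rw [e, Matrix.mulVec_add] at ht'
  constructor
  · intro h1
    refine (hsign _ (si_lt hj)).resolve_right fun h2 => ?_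
    rw [h1, h2] at ht'
    rcases ht' with h3 | h3
    · exact eq_neg_self (si_lt hj) (add_left_cancel h3).symm
    · rw [neg_add] at h3
      exact eq_neg_self (si_lt hi) (add_right_cancel h3)
  · intro h1
    refine (hsign _ (si_lt hi)).resolve_right fun h2 => ?_
    rw [h1, h2] at ht'
    rcases ht' with h3 | h3
    · exact eq_neg_self (si_lt hi) (add_right_cancel h3).symm
    · rw [neg_add] at h3
      exact eq_neg_self (si_lt hj) (add_left_cancel h3)

/-- An element preserving each root up to sign is plus or minus one. -/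
theorem eq_one_or_neg_one {V : Matrix (Fin tabE8.l) (Fin tabE8.l) ℤ}
    (hsign : ∀ r < 240, V *ᵥ carV tabE8 r = carV tabE8 r ∨ V *ᵥ carV tabE8 r = -carV tabE8 r) :
    V = 1 ∨ V = -1 := by
  have t0 : ∀ j : Fin 7, carV tabE8 (([163, 142, 136, 131, 127, 124, 122] : List ℕ).getD j.val 0) =
      carV tabE8 (tabE8.simple (([0, 1, 2, 3, 4, 5, 6] : List ℕ).getD j.val 0)) +
      carV tabE8 (tabE8.simple (([2, 3, 3, 4, 5, 6, 7] : List ℕ).getD j.val 0)) := fun j => funext fun t => triples j t
  have p02 := same_sign hsign (i := 0) (j := 2) (t := 163) (by norm_num) (by norm_num) (by norm_num) (t0 0)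
  have p13 := same_sign hsign (i := 1) (j := 3) (t := 142) (by norm_num) (by norm_num) (by norm_num) (t0 1)
  have p23 := same_sign hsign (i := 2) (j := 3) (t := 136) (by norm_num) (by norm_num) (by norm_num) (t0 2)
  have p34 := same_sign hsign (i := 3) (j := 4) (t := 131) (by norm_num) (by norm_num) (by norm_num) (t0 3)
  have p45 := same_sign hsign (i := 4) (j := 5) (t := 127) (by norm_num) (by norm_num) (by norm_num) (t0 4)
  have p56 := same_sign hsign (i := 5) (j := 6) (t := 124) (by norm_num) (by norm_num) (by norm_num) (t0 5)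
  have p67 := same_sign hsign (i := 6) (j := 7) (t := 122) (by norm_num) (by norm_num) (by norm_num) (t0 6)
  have hall : ∀ i, i < 8 → ((V *ᵥ carV tabE8 (tabE8.simple i) = carV tabE8 (tabE8.simple i)) ↔
      (V *ᵥ carV tabE8 (tabE8.simple 0) = carV tabE8 (tabE8.simple 0))) := fun i hi => by
    have q3 := p23.symm.trans p02.symm
    have q4 := p34.symm.trans q3
    have q5 := p45.symm.trans q4
    have q6 := p56.symm.trans q5
    interval_cases i
    exacts [Iff.rfl, p13.trans q3, p02.symm, q3, q4, q5, q6, p67.symm.trans q6]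
  by_cases h0 : V *ᵥ carV tabE8 (tabE8.simple 0) = carV tabE8 (tabE8.simple 0)
  · exact Or.inl (eq_one_of_simple V fun i => (hall i.val i.2).2 h0)
  · refine Or.inr (neg_eq_iff_eq_neg.1 (eq_one_of_simple _ fun i => ?_))
    rw [Matrix.neg_mulVec, (hsign _ (si_lt i.2)).resolve_left fun h => h0 ((hall i.val i.2).1 h), _root_.neg_neg]

theorem eigen_pow {n : ℕ} {M : Matrix (Fin n) (Fin n) ℤ} {c : Fin n → ZMod 17}
    (h : c ᵥ* M.map (Int.castRingHom (ZMod 17)) = (3 : ZMod 17) • c) (i : ℕ) :
    c ᵥ* (M ^ i).map (Int.castRingHom (ZMod 17)) = (3 : ZMod 17) ^ i • c := by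
  induction i with
  | zero => simp
  | succ i ih => rw [pow_succ, Matrix.map_mul, ← Matrix.vecMul_vecMul, ih, Matrix.smul_vecMul, h, smul_smul, pow_succ]

theorem seventeen_facts : (3 : ZMod 17) ^ 8 = -1 ∧ ∀ x : ZMod 17, x = -x → x = 0 := by decide

/-- No element of the Weyl group has the eigenvalue. -/
theorem no_eigen {w : List ℕ} (hw : WordOK tabE8 w) {c : Fin tabE8.l → ZMod 17} (hc : c ≠ 0)
    (h : c ᵥ* (w.map (reflMat tabE8)).prod.map (Int.castRingHom (ZMod 17)) = (3 : ZMod 17) • c) : False := by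
  haveI : Fact (Nat.Prime 2) := ⟨Nat.prime_two⟩
  haveI : Fact (Nat.Prime 17) := ⟨by norm_num⟩
  obtain ⟨N, hN, hMN⟩ := acts_finite_order certE8 iE8_mul
    (E8Monomial.acts_word certE8 w hw (one_mem (chevE8.diagonalSubgroup (ZMod 2))))
  have hM : ((w.map (reflMat tabE8)).prod)ᵀ * qM * (w.map (reflMat tabE8)).prod = qM :=
    E8Monomial.qM_word w hw
  have hroot0 := carV_root w hw
  generalize (w.map (reflMat tabE8)).prod = M at h hMN hM hroot0
  obtain ⟨a, m, hm, rfl⟩ := Nat.exists_eq_two_pow_mul_odd hN.ne'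
  set v := M ^ m with hv
  have hu : red v ^ 2 ^ a = 1 := by rw [← map_pow, hv, ← pow_mul, mul_comm m, hMN, map_one]
  obtain ⟨hu8, -, -⟩ := unipotent_facts rfl hu
  have hsign : ∀ r < 240, v ^ 8 *ᵥ carV tabE8 r = carV tabE8 r ∨ v ^ 8 *ᵥ carV tabE8 r = -carV tabE8 r := by
    intro r hr
    obtain ⟨s, hs, e⟩ := hroot0 (m * 8) hr
    rw [pow_mul, ← hv] at e
    have hmod : ∀ i < 8, (tabE8.car i s : ZMod 2) = (tabE8.car i r : ZMod 2) := by
      intro i hi
      show ((carV tabE8 s ⟨i, hi⟩ : ℤ) : ZMod 2) = _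
      rw [congrFun e ⟨i, hi⟩, Matrix.mulVec, dotProduct, Int.cast_sum]
      rw [Finset.sum_congr rfl fun j _ => show (((v ^ 8) ⟨i, hi⟩ j * carV tabE8 r j : ℤ) : ZMod 2) =
          (1 : Matrix (Fin tabE8.l) (Fin tabE8.l) (ZMod 2)) ⟨i, hi⟩ j * (carV tabE8 r j : ZMod 2) by
        rw [Int.cast_mul]
        exact congrArg (· * (carV tabE8 r j : ZMod 2))
          (congrFun (congrFun (show red (v ^ 8) = 1 by rw [map_pow]; exact hu8) ⟨i, hi⟩) j)]
      simp only [Matrix.one_apply, ite_mul, one_mul, zero_mul, Finset.sum_ite_eq, Finset.mem_univ, if_true]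
      rfl
    rcases E8Roots.car_mod_two hs hr hmod with rfl | rfl
    · exact Or.inl e.symm
    · exact Or.inr (e.symm.trans (car_neg' ⟨r, hr⟩))
  rcases eq_one_or_neg_one hsign with h1 | h1
  · have h8 := eigen_pow h (m * 8)
    rw [pow_mul, ← hv, h1, Matrix.map_one _ (map_zero _) (map_one _), Matrix.vecMul_one, mul_comm m,
      pow_mul, seventeen_facts.1, hm.neg_one_pow, neg_one_smul] at h8
    exact hc (funext fun i => seventeen_facts.2 _ (congrFun h8 i))
  · have hiso : ∀ i, (M ^ i)ᵀ * qM * M ^ i = qM := by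
      intro i
      induction i with
      | zero => simp
      | succ i ih =>
        rw [pow_succ, Matrix.transpose_mul]
        calc Mᵀ * (M ^ i)ᵀ * qM * (M ^ i * M) = Mᵀ * ((M ^ i)ᵀ * qM * M ^ i) * M := by
              simp only [Matrix.mul_assoc]
          _ = qM := by rw [ih, hM]
    exact false_of_iso rfl qM_transpose qM_diag (mul_eq_one_comm.1 iE8_mul) (hiso m) h1 hu

/-- Multiplication by three on seventeen points with an exchange of two more. -/
def permY : Equiv.Perm (Fin 19) where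
  toFun i := if h : i.val < 17 then ⟨3 * i.val % 17, by omega⟩ else ⟨35 - i.val, by omega⟩
  invFun i := if h : i.val < 17 then ⟨6 * i.val % 17, by omega⟩ else ⟨35 - i.val, by omega⟩
  left_inv := by decide
  right_inv := by decide

/-- A cycle of seventeen points. -/
def permX : Equiv.Perm (Fin 19) where
  toFun i := if h : i.val < 17 then ⟨(i.val + 1) % 17, by omega⟩ else i
  invFun i := if h : i.val < 17 then ⟨(i.val + 16) % 17, by omega⟩ else i
  left_inv := by decide
  right_inv := by decide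

theorem perm_facts : Equiv.Perm.sign permX = 1 ∧ Equiv.Perm.sign permY = 1 ∧ permX ^ 17 = 1 ∧
    permX ≠ 1 ∧ permY * permX * permY⁻¹ = permX ^ 3 ∧ permY ^ 16 = 1 := by
  decide +kernel

/-- No alternating section on nineteen points in characteristic prime to seventeen. -/
theorem false_of_section {F : Type*} [Field F] [Fintype F] (hq : ¬ 17 ∣ Fintype.card F) {r : ℕ}
    (hr : 19 ≤ r) {H : Subgroup ↥(chevE8.group F)} (π : H →* alternatingGroup (Fin r))
    (hπ : Function.Surjective π) : False := by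
  classical
  haveI : Fact (Nat.Prime 17) := ⟨by norm_num⟩
  obtain ⟨f, hf⟩ := ChevSection.exists_embedding hr
  obtain ⟨sx, sy, p17, hne, hact, p16⟩ := perm_facts
  let X : alternatingGroup (Fin 19) := ⟨permX, Equiv.Perm.mem_alternatingGroup.2 sx⟩
  let Y : alternatingGroup (Fin 19) := ⟨permY, Equiv.Perm.mem_alternatingGroup.2 sy⟩
  obtain ⟨xs', y', ho', hc', hy'⟩ := Lift.exists_lift hπ (fun _ : Unit => f X) (fun _ => 17)
    (fun _ => Fact.out) (fun _ _ _ => rfl)
    (fun _ => by
      rw [orderOf_injective f hf, ← Subgroup.orderOf_coe]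
      exact orderOf_eq_prime p17 hne)
    (fun _ _ => Commute.refl _) (f Y) (fun _ => 3)
    (fun _ => by rw [← map_inv, ← map_mul, ← map_mul, ← map_pow]; exact congrArg f (Subtype.ext hact))
    (fun _ hd => by
      rw [orderOf_injective f hf, ← Subgroup.orderOf_coe] at hd
      exact absurd (hd.trans (orderOf_dvd_of_pow_eq_one p16)) (by norm_num))
  let c : ↥H →* GL chevE8.Idx F := (chevE8.group F).subtype.comp H.subtype
  have hcinj : Function.Injective c := Subtype.val_injective.comp Subtype.val_injective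
  obtain ⟨w, hw, hwe⟩ := EigenFusion.exists_word_eigen certE8 iE8_mul [2, 8, 12, 14, 18, 20, 24, 30] 120 rfl
    (fun L _ _ => orderOK_E8 (F := L)) (fun _ : Unit => 17) (fun _ => Fact.out) (fun _ => hq)
    (fun _ => by decide) (fun i => c (xs' i)) (fun i => (xs' i).1.2)
    (fun i => (orderOf_injective c hcinj (xs' i)).trans (ho' i))
    (fun i j => (hc' i j).map c) (c y') y'.1.2 (fun _ => 3)
    (fun i => by rw [← map_inv, ← map_mul, ← map_mul, ← map_pow, hy' i])
  obtain ⟨v, hv0, hv⟩ := hwe ()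
  exact no_eigen hw hv0 hv

end CfsgLib.Classical.AltSection.E8Seventeen
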