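import Cfsg.Agent.Lib.Classical.AltSection.E8.Monomial
import Cfsg.Agent.Lib.Classical.AltSection.E7Sylow

/-!
Three-subgroups of the groups of type E8 in characteristic other than three: conjugacy into monomial
groups over an extension, the size of their elementary abelian quotients, and the fixed space of an
element of order three.
-/

set_option autoImplicit false
set_option maxRecDepth 100000
set_option maxHeartbeats 1000000
set_option linter.unusedSectionVars false

namespace CfsgLib.Classical.AltSection.E8Sylow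

open Cfsg.Lie Matrix CfsgLib.Chev CfsgLib.Chev.SylowTorus

theorem card_weyl (L : Type*) [Field L] :
    (chevE8.diagonalSubgroup L).relIndex (chevE8.monomialSubgroup L) = 696729600 := by
  obtain ⟨φ, hsurj, hker, -⟩ := exists_monomial_weylE8 L
  rw [Subgroup.relIndex, ← hker, Subgroup.index_ker, MonoidHom.range_eq_top.2 hsurj, Subgroup.card_top,
    card_coxeterE8]

/-- The monomial subgroup contains a Sylow three-subgroup. -/
theorem not_dvd_relIndex [Fact (Nat.Prime 3)] {L : Type*} [Field L] [Fintype L]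
    (hQ1 : 3 ∣ Fintype.card L - 1) :
    ¬ 3 ∣ (chevE8.monomialSubgroup L).relIndex (chevE8.group L) := by
  classical
  set T := chevE8.diagonalSubgroup L
  set N := chevE8.monomialSubgroup L
  set G := chevE8.group L
  have hTN : T ≤ N := Cert.diagonal_le_monomial
  have hNG : N ≤ G := certE8.monomial_le_group
  obtain ⟨g, -, eG, eD⟩ := (orderOK_E8 (F := L)).ex
  set Q := Fintype.card L with hQdef
  have hQ : 1 < Q := Fintype.one_lt_card
  have hcard : Nat.card T * T.relIndex G = Nat.card G := by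
    rw [Subgroup.relIndex, ← Nat.card_congr (Subgroup.subgroupOfEquivOfLe (hTN.trans hNG)).toEquiv]
    exact Subgroup.card_mul_index _
  have e1 : T.relIndex G * (Q - 1) ^ 8 =
      Q ^ 120 * (([2, 8, 12, 14, 18, 20, 24, 30] : List ℕ).map fun d => Q ^ d - 1).prod := by
    have eD' : g * Nat.card T = (Q - 1) ^ 8 := eD
    rw [← eG, ← eD', ← hcard]
    ring
  have hQ0 : Q - 1 ≠ 0 := Nat.sub_ne_zero_of_lt hQ
  have hne : ¬ 3 ∣ Q := fun h => by omega
  have hT0 : T.relIndex G ≠ 0 := by
    intro h
    rw [h, mul_zero] at hcard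
    exact Nat.card_pos.ne' hcard.symm
  have hP0 : (([2, 8, 12, 14, 18, 20, 24, 30] : List ℕ).map fun d => Q ^ d - 1).prod ≠ 0 := by
    intro h
    rw [h, mul_zero] at e1
    exact mul_ne_zero hT0 (pow_ne_zero _ hQ0) e1
  have e2 := congrArg (padicValNat 3) e1
  rw [padicValNat.mul hT0 (pow_ne_zero _ hQ0), padicValNat.mul (pow_ne_zero _ (by omega)) hP0,
    padicValNat.pow _ _, padicValNat.pow _ _, padicValNat.eq_zero_of_not_dvd hne,
    E7Sylow.val_geom (by norm_num) hQ hQ1 _ (by decide), mul_zero, zero_add] at e2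
  simp only [List.length_cons, List.length_nil, List.prod_cons, List.prod_nil] at e2
  norm_num only at e2
  have h3 : T.relIndex N * N.relIndex G = T.relIndex G := Subgroup.relIndex_mul_relIndex T N G hTN hNG
  have hN0 : N.relIndex G ≠ 0 := fun h => hT0 (by rw [← h3, h, mul_zero])
  rw [← h3, padicValNat.mul (by rw [card_weyl]; norm_num) hN0, card_weyl] at e2
  have h4 : padicValNat 3 (N.relIndex G) = 0 := by omega
  intro hd
  exact absurd h4 (Nat.one_le_iff_ne_zero.1 (one_le_padicValNat_of_dvd hN0 hd))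

variable {F : Type*} [Field F] [Fintype F]

/-- A three-subgroup becomes monomial after extending the field. -/
theorem exists_conj [Fact (Nat.Prime 3)] (h3q : ¬ 3 ∣ Fintype.card F)
    {P : Subgroup (GL chevE8.Idx F)} (hP : P ≤ chevE8.group F) (hp : IsPGroup 3 P)
    {k : Type} [Field k] [IsAlgClosed k] (j₀ : F →+* k) :
    ∃ (L : Type) (_ : Field L) (_ : Fintype L) (f : F →+* L) (jk : L →+* k) (g : GL chevE8.Idx L),
      jk.comp f = j₀ ∧ ∀ p ∈ P, g * mapGL chevE8 f p * g⁻¹ ∈ chevE8.monomialSubgroup L := by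
  classical
  obtain ⟨p, hpc⟩ := CharP.exists F
  obtain ⟨e', hpp, -⟩ := FiniteField.card F p
  have := Fact.mk hpp
  have : NeZero (3 - 1) := ⟨by norm_num⟩
  let L := FiniteField.Extension F p (3 - 1)
  let : Fintype L := Fintype.ofFinite L
  have hQ1 : 3 ∣ Fintype.card L - 1 := by
    rw [← ZMod.natCast_eq_zero_iff, Nat.cast_sub Fintype.card_pos, Nat.cast_one, sub_eq_zero,
      ← Nat.card_eq_fintype_card, FiniteField.natCard_extension, Nat.card_eq_fintype_card,
      Nat.cast_pow, ZMod.pow_card_sub_one_eq_one fun h0 => h3q ((ZMod.natCast_eq_zero_iff _ _).1 h0)]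
  let f : F →+* L := algebraMap F L
  letI : Algebra F k := j₀.toAlgebra
  haveI : Module.Finite F L := Module.Finite.of_finite
  let jk : L →ₐ[F] k := IsAlgClosed.lift
  have hidx := not_dvd_relIndex (L := L) hQ1
  set D := chevE8.monomialSubgroup L
  obtain ⟨S⟩ : Nonempty (Sylow 3 D) := inferInstance
  set X := (S : Subgroup D).map D.subtype with hX
  have hXD : X ≤ D := Subgroup.map_subtype_le _
  have hDG : D ≤ chevE8.group L := certE8.monomial_le_group
  have hidx' : ¬ 3 ∣ X.relIndex (chevE8.group L) := by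
    rw [← Subgroup.relIndex_mul_relIndex X D _ hXD hDG]
    refine Nat.prime_three.not_dvd_mul ?_ hidx
    rw [Subgroup.relIndex, hX, ← Subgroup.comap_subtype,
      Subgroup.comap_map_eq_self_of_injective D.subtype_injective]
    exact S.not_dvd_index
  obtain ⟨g, -, hh⟩ := CfsgLib.Transfer.exists_conj_le_of_not_dvd_relIndex (hXD.trans hDG)
    (S.isPGroup'.map _) hidx' (Y := P.map (mapGL chevE8 f)) (by
      rintro _ ⟨v, hv, rfl⟩
      exact certE8.map_mem_group f (hP hv)) (hp.map _)
  exact ⟨L, inferInstance, inferInstance, f, jk.toRingHom, g, RingHom.ext fun x => jk.commutes x,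
    fun v hv => hXD (hh ⟨_, ⟨v, hv, rfl⟩, rfl⟩)⟩

theorem not_dvd_weyl : ¬ 3 ^ 6 ∣ 696729600 := by norm_num

/-- An elementary abelian quotient of a three-subgroup has order at most three to the thirteenth. -/
theorem card_quotient_le [Fact (Nat.Prime 3)] (h3q : ¬ 3 ∣ Fintype.card F) {P : Type*} [Group P]
    [Finite P] (hp : IsPGroup 3 P) (ι : P →* GL chevE8.Idx F) (hι : Function.Injective ι)
    (hmem : ∀ x, ι x ∈ chevE8.group F) {E : Type*} [CommGroup E] [Finite E] (hE : ∀ e : E, e ^ 3 = 1)
    (θ : P →* E) (hθ : Function.Surjective θ) : Nat.card E ≤ 3 ^ 13 := by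
  classical
  obtain ⟨p, hpc⟩ := CharP.exists F
  obtain ⟨e', hpp, -⟩ := FiniteField.card F p
  have := Fact.mk hpp
  letI : Algebra (ZMod p) F := ZMod.algebra _ _
  obtain ⟨L, _, _, f, jk, g, -, hconj⟩ := exists_conj h3q
    (P := ι.range) (by rintro _ ⟨x, rfl⟩; exact hmem x)
    (hp.of_surjective ι.rangeRestrict ι.rangeRestrict_surjective)
    ((IsAlgClosed.lift : F →ₐ[ZMod p] AlgebraicClosure (ZMod p)).toRingHom)
  let κ : P →* GL chevE8.Idx L := (MulAut.conj g).toMonoidHom.comp ((mapGL chevE8 f).comp ι)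
  have hκ : Function.Injective κ := (MulAut.conj g).injective.comp ((mapGL_injective chevE8 f).comp hι)
  have hκm : ∀ x, κ x ∈ chevE8.monomialSubgroup L := fun x => hconj _ ⟨x, rfl⟩
  let q : P →* chevE8.monomialSubgroup L := κ.codRestrict _ hκm
  obtain ⟨φ, -, hker, -⟩ := exists_monomial_weylE8 L
  set T : Subgroup P := ((chevE8.diagonalSubgroup L).subgroupOf (chevE8.monomialSubgroup L)).comap q with hT
  have hidx : T.index ≤ 3 ^ 5 := by
    have e : T = (φ.comp q).ker := by rw [hT, ← hker, MonoidHom.comap_ker]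
    rw [e, Subgroup.index_ker]
    haveI : Finite (CoxeterMatrix.Group CoxeterMatrix.E₈) :=
      Nat.finite_of_card_ne_zero (by rw [card_coxeterE8]; norm_num)
    obtain ⟨m, hm⟩ := IsPGroup.iff_card.1 (hp.of_surjective (φ.comp q).rangeRestrict
      (φ.comp q).rangeRestrict_surjective)
    have hd : 3 ^ m ∣ 696729600 := by
      rw [← hm, ← card_coxeterE8]
      exact Subgroup.card_subgroup_dvd_card _
    rw [hm]
    refine Nat.pow_le_pow_right (by norm_num) ?_
    by_contra hc
    exact not_dvd_weyl ((pow_dvd_pow 3 (by omega)).trans hd)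
  have hdiag : ∀ x : T, ∃ c : Fin tabE8.l → Lˣ, Cert.torusHom (D := chevE8) (T := tabE8) c = κ x.1 :=
    fun x => certE8.range_torusHom.ge x.2
  choose cf hcf using hdiag
  letI : CommGroup T :=
    { (inferInstance : Group T) with
      mul_comm := fun a b => Subtype.ext (hκ (by
        rw [Subgroup.coe_mul, Subgroup.coe_mul, map_mul, map_mul, ← hcf a, ← hcf b, ← map_mul,
          ← map_mul, mul_comm (cf a)])) }
  let pw : T →* T := powMonoidHom 3
  have h8 : Nat.card pw.ker ≤ 3 ^ 8 := by
    have hroot : ∀ (x : pw.ker) i, cf x.1 i ∈ rootsOfUnity 3 L := fun x i => by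
      have h1 : x.1 ^ 3 = 1 := x.2
      have h2 := congrArg (fun y : T => κ y.1) h1
      simp only [SubgroupClass.coe_pow, map_pow, ← hcf, OneMemClass.coe_one, map_one] at h2
      rw [← map_pow] at h2
      rw [mem_rootsOfUnity, ← Pi.pow_apply,
        GTorus.torusHom_injective certE8 GTorus.iE8_mul (h2.trans (map_one _).symm)]
      rfl
    have hinj : Function.Injective fun (x : pw.ker) (i : Fin tabE8.l) =>
        (⟨cf x.1 i, hroot x i⟩ : rootsOfUnity 3 L) := fun x y e => by
      refine Subtype.ext (Subtype.ext (hκ ?_))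
      rw [← hcf, ← hcf, show cf x.1 = cf y.1 from funext fun i => congrArg Subtype.val (congrFun e i)]
    refine (Nat.card_le_card_of_injective _ hinj).trans ?_
    rw [Nat.card_fun, Nat.card_fin, show tabE8.l = 8 from rfl]
    exact Nat.pow_le_pow_left (card_rootsOfUnity L 3) 8
  have hT8 : Nat.card (θ.comp T.subtype).range ≤ 3 ^ 8 := by
    have hle : pw.range ≤ (θ.comp T.subtype).ker := by
      rintro _ ⟨x, rfl⟩
      rw [MonoidHom.mem_ker]
      show (θ.comp T.subtype) (x ^ 3) = 1
      rw [map_pow, hE]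
    have h1 : Nat.card (θ.comp T.subtype).range ∣ pw.range.index := by
      rw [← Subgroup.index_ker]; exact Subgroup.index_dvd_of_le hle
    have h2 : pw.range.index = Nat.card pw.ker := by
      have a := Subgroup.card_mul_index pw.range
      have b := Subgroup.card_mul_index pw.ker
      rw [Subgroup.index_ker] at b
      have hpos : 0 < Nat.card pw.range := Nat.card_pos
      exact Nat.eq_of_mul_eq_mul_left hpos (by rw [a, ← b, mul_comm])
    exact (Nat.le_of_dvd (by rw [h2]; exact Nat.card_pos) h1).trans (h2 ▸ h8)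
  have hTr : (θ.comp T.subtype).range = T.map θ := by
    rw [MonoidHom.range_comp, Subgroup.range_subtype]
  rw [hTr] at hT8
  have h5 : (T.map θ).index ≤ 3 ^ 5 :=
    (Nat.le_of_dvd (Nat.pos_of_ne_zero Subgroup.index_ne_zero_of_finite)
      (T.index_map_dvd hθ)).trans hidx
  calc Nat.card E = Nat.card (T.map θ) * (T.map θ).index := (Subgroup.card_mul_index _).symm
    _ ≤ 3 ^ 8 * 3 ^ 5 := Nat.mul_le_mul hT8 h5
    _ = 3 ^ 13 := by rw [← pow_add]

/-- An element of order three fixes at most one hundred and eighty-eight dimensions. -/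
theorem fix_le [Fact (Nat.Prime 3)] (h3q : ¬ 3 ∣ Fintype.card F) {u : GL chevE8.Idx F}
    (hu : u ∈ chevE8.group F) (hu3 : u ^ 3 = 1) (hu1 : u ≠ 1)
    {k : Type} [Field k] [IsAlgClosed k] (j₀ : F →+* k) :
    Module.finrank k (LinearMap.ker
      (Matrix.toLin' ((u : Matrix chevE8.Idx chevE8.Idx F).map j₀) - 1)) ≤ 188 := by
  classical
  obtain ⟨L, _, _, f, jk, g, hjk, hconj⟩ := exists_conj h3q
    (P := Subgroup.zpowers u) (Subgroup.zpowers_le.2 hu)
    (IsPGroup.of_card_dvd_pow (n := 1) (by
      rw [Nat.card_zpowers, pow_one]; exact orderOf_dvd_of_pow_eq_one hu3)) j₀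
  set d := g * mapGL chevE8 f u * g⁻¹ with hd
  have hd3 : d ^ 3 = 1 := by rw [hd, conj_pow, ← map_pow, hu3, map_one, mul_one, mul_inv_cancel]
  have hd1 : d ≠ 1 := fun h => hu1 (mapGL_injective chevE8 f (by rw [map_one]; exact conj_eq_one_iff.1 h))
  have hb := E8Monomial.fix_le jk (hconj u (Subgroup.mem_zpowers u)) hd3 hd1
  let M : GL chevE8.Idx L →* GL chevE8.Idx k := mapGL chevE8 jk
  have hU : (M (mapGL chevE8 f u) : Matrix chevE8.Idx chevE8.Idx k) =
      (u : Matrix chevE8.Idx chevE8.Idx F).map j₀ := by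
    rw [← hjk]
    simp [M, coe_mapGL, Matrix.map_map, Function.comp_def]
  let G := (Matrix.toLinAlgEquiv' (R := k) (n := chevE8.Idx))
  let e : (chevE8.Idx → k) ≃ₗ[k] (chevE8.Idx → k) :=
    LinearMap.GeneralLinearGroup.generalLinearEquiv k _
      (Units.map G.toRingEquiv.toMonoidHom (M g))
  have hk : (LinearMap.ker (Matrix.toLin' ((u : Matrix chevE8.Idx chevE8.Idx F).map j₀) - 1)).map e.toLinearMap ≤
      LinearMap.ker (Matrix.toLin' ((d : Matrix chevE8.Idx chevE8.Idx L).map jk) - 1) := by
    rintro _ ⟨x, hx, rfl⟩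
    rw [SetLike.mem_coe, LinearMap.mem_ker, LinearMap.sub_apply, Module.End.one_apply, sub_eq_zero,
      Matrix.toLin'_apply] at hx
    rw [LinearMap.mem_ker, LinearMap.sub_apply, Module.End.one_apply, sub_eq_zero, Matrix.toLin'_apply,
      ← coe_mapGL, hd, map_mul, map_mul, map_inv, Units.val_mul, Units.val_mul]
    show _ *ᵥ ((M g : Matrix chevE8.Idx chevE8.Idx k) *ᵥ x) = (M g : Matrix chevE8.Idx chevE8.Idx k) *ᵥ x
    rw [Matrix.mulVec_mulVec, Matrix.mul_assoc, Units.inv_mul, Matrix.mul_one, ← Matrix.mulVec_mulVec,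
      show (mapGL chevE8 jk (mapGL chevE8 f u) : Matrix chevE8.Idx chevE8.Idx k) = _ from hU, hx]
  calc Module.finrank k (LinearMap.ker (Matrix.toLin' ((u : Matrix chevE8.Idx chevE8.Idx F).map j₀) - 1))
      = Module.finrank k ((LinearMap.ker (Matrix.toLin' ((u : Matrix chevE8.Idx chevE8.Idx F).map j₀) - 1)).map
          e.toLinearMap) := (LinearEquiv.finrank_map_eq e _).symm
    _ ≤ _ := Submodule.finrank_mono hk
    _ ≤ 188 := hb.trans (by norm_num)

end CfsgLib.Classical.AltSection.E8Sylow
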